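import Mathlib
import Cfsg.Prelude.Def_KGroupFacts

/-!
A criterion for the outer automorphism group of a finite group to have order two: the group has
a cyclic Sylow 17-subgroup `⟨x⟩` whose generator is conjugate to its square, an involution `t`
such that automorphisms are determined by their values on `x` and `t`, and an automorphism `σ`
fixing `x` which is not inner; every automorphism fixing `x` sends `t` to `t` or to `σ t` up to
conjugation by an element centralising `x`, and no automorphism sends `x` to `x ^ 3`.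
-/

set_option autoImplicit false

namespace Cfsg.Agent.Lib.Helper60.OutTwo

/-- two elements of prime order `p` in a finite group whose order is not divisible by `p ^ 2`
generate conjugate subgroups -/
theorem sylow_cyclic_conj {Q : Type*} [Group Q] [Finite Q] (p : ℕ) [hp : Fact p.Prime]
    (hcard : ¬ p ^ 2 ∣ Nat.card Q) (x z : Q) (hx : orderOf x = p) (hz : orderOf z = p) :
    ∃ g : Q, ∃ k : ℕ, z = g * x ^ k * g⁻¹ := by
  have hcard0 : Nat.card Q ≠ 0 := Nat.card_pos.ne'
  have hsyl : ∀ P : Sylow p Q, ∀ g : Q, orderOf g = p → Subgroup.zpowers g ≤ P →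
      (P : Subgroup Q) = Subgroup.zpowers g := by
    intro P g hg hle
    have hc := P.card_eq_multiplicity
    have hk : (Nat.card Q).factorization p < 2 := by
      by_contra hcon
      rw [not_lt] at hcon
      exact hcard ((hp.out.pow_dvd_iff_le_factorization hcard0).mpr hcon)
    have hzc : Nat.card (Subgroup.zpowers g) = p := by rw [Nat.card_zpowers, hg]
    have hdvd : p ∣ Nat.card (P : Subgroup Q) := by
      have := Subgroup.card_dvd_of_le hle
      rwa [hzc] at this
    have hk1 : (Nat.card Q).factorization p = 1 := by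
      rcases Nat.lt_succ_iff_lt_or_eq.mp hk with h0 | h1
      · have h00 : (Nat.card Q).factorization p = 0 := by omega
        rw [hc, h00, pow_zero] at hdvd
        exact absurd (Nat.dvd_one.mp hdvd) hp.out.one_lt.ne'
      · exact h1
    rw [hk1, pow_one] at hc
    symm
    apply Subgroup.eq_of_le_of_card_ge hle
    rw [hzc, hc]
  have hpg : ∀ g : Q, orderOf g = p → IsPGroup p (Subgroup.zpowers g) := by
    intro g hg
    apply IsPGroup.of_card (n := 1)
    rw [Nat.card_zpowers, hg, pow_one]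
  obtain ⟨Q1, hQ1⟩ := (hpg x hx).exists_le_sylow
  obtain ⟨Q2, hQ2⟩ := (hpg z hz).exists_le_sylow
  have hQ1e := hsyl Q1 x hx hQ1
  obtain ⟨g, hg⟩ := MulAction.exists_smul_eq Q Q1 Q2
  have hz2 : z ∈ ((g • Q1 : Sylow p Q) : Subgroup Q) := by
    rw [hg]; exact hQ2 (Subgroup.mem_zpowers z)
  rw [Sylow.smul_def, Sylow.pointwise_smul_def, Subgroup.mem_pointwise_smul_iff_inv_smul_mem,
    hQ1e] at hz2
  have h3 : g⁻¹ * z * g ∈ Subgroup.zpowers x := by
    simpa [MulAut.smul_def] using hz2
  rw [← mem_powers_iff_mem_zpowers] at h3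
  obtain ⟨k, hk⟩ := h3
  refine ⟨g, k, ?_⟩
  change x ^ k = g⁻¹ * z * g at hk
  rw [hk]
  group

/-- reduction of the exponent: a unit modulo 17 is a power of two or three times a power of
two -/
theorem exp_cases : ∀ k : Fin 17, k ≠ 0 →
    ∃ j : Fin 8, (k : ℕ) = 2 ^ (j : ℕ) % 17 ∨ (k : ℕ) = 2 ^ (j : ℕ) * 3 % 17 := by
  decide

theorem conj_pow_two {Q : Type*} [Group Q] {x n : Q} (hn : n * x * n⁻¹ = x ^ 2) (j : ℕ) :
    n ^ j * x * (n ^ j)⁻¹ = x ^ 2 ^ j := by
  induction j with
  | zero => simp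
  | succ j ih =>
    have e : n ^ (j + 1) * x * (n ^ (j + 1))⁻¹ = n * (n ^ j * x * (n ^ j)⁻¹) * n⁻¹ := by
      rw [pow_succ']; group
    rw [e, ih]
    have e2 : n * x ^ 2 ^ j * n⁻¹ = (n * x * n⁻¹) ^ 2 ^ j := by
      rw [conj_pow]
    rw [e2, hn, ← pow_mul, pow_succ']

open Cfsg in
theorem card_out_two {Q : Type*} [Group Q] [Finite Q] (x t n : Q) (σ : MulAut Q)
    (hcard : ¬ 17 ^ 2 ∣ Nat.card Q) (hx : orderOf x = 17) (hn : n * x * n⁻¹ = x ^ 2)
    (hgen : ∀ f g : MulAut Q, f x = g x → f t = g t → f = g)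
    (hσx : σ x = x) (hσ : σ ∉ Inn Q)
    (h1 : ∀ β : MulAut Q, β x = x →
      ∃ c : Q, c * x = x * c ∧ ((MulAut.conj c * β) t = t ∨ (MulAut.conj c * β) t = σ t))
    (h3 : ∀ β : MulAut Q, β x ≠ x ^ 3) :
    Nat.card (Out Q) = 2 := by
  have : Fact (Nat.Prime 17) := ⟨by norm_num⟩
  have hx17 : x ^ 17 = 1 := by rw [← hx, pow_orderOf_eq_one]
  -- every automorphism is inner or inner times `σ`
  have key : ∀ α : MulAut Q, α ∈ Inn Q ∨ α * σ⁻¹ ∈ Inn Q := by
    intro α
    have hαx : orderOf (α x) = 17 := by rw [MulEquiv.orderOf_eq, hx]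
    obtain ⟨g, k, hk⟩ := sylow_cyclic_conj 17 hcard x (α x) hx hαx
    have hk17 : x ^ k = x ^ (k % 17) := by
      conv_lhs => rw [← Nat.div_add_mod k 17]
      rw [pow_add, pow_mul, hx17, one_pow, one_mul]
    have hk0 : k % 17 ≠ 0 := by
      intro h0
      rw [hk17, h0, pow_zero, mul_one, mul_inv_cancel] at hk
      rw [hk, orderOf_one] at hαx
      norm_num at hαx
    obtain ⟨j, hj⟩ := exp_cases ⟨k % 17, Nat.mod_lt _ (by norm_num)⟩
      (fun h => hk0 (congrArg Fin.val h))
    have hpm : ∀ m : ℕ, x ^ (m % 17) = x ^ m := by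
      intro m
      conv_rhs => rw [← Nat.div_add_mod m 17]
      rw [pow_add, pow_mul, hx17, one_pow, one_mul]
    -- `α x = h * x ^ c * h⁻¹` with `c = 1` or `c = 3`
    have hc : ∃ h : Q, ∃ c : ℕ, (c = 1 ∨ c = 3) ∧ α x = h * x ^ c * h⁻¹ := by
      have hnj := conj_pow_two hn (j : ℕ)
      rcases hj with hj | hj
      · refine ⟨g * n ^ (j : ℕ), 1, Or.inl rfl, ?_⟩
        change k % 17 = 2 ^ (j : ℕ) % 17 at hj
        rw [hk, hk17, hj, hpm, ← hnj, pow_one]
        group
      · refine ⟨g * n ^ (j : ℕ), 3, Or.inr rfl, ?_⟩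
        change k % 17 = 2 ^ (j : ℕ) * 3 % 17 at hj
        rw [hk, hk17, hj, hpm, pow_mul, ← hnj, conj_pow]
        group
    obtain ⟨h, c, hc13, hh⟩ := hc
    -- the automorphism `β = conj h⁻¹ * α` sends `x` to `x ^ c`
    have hβ : (MulAut.conj h⁻¹ * α) x = x ^ c := by
      rw [MulAut.mul_apply, hh, MulAut.conj_apply]
      group
    rcases hc13 with rfl | rfl
    · rw [pow_one] at hβ
      obtain ⟨c, hcx, hct⟩ := h1 _ hβ
      have hβ' : (MulAut.conj c * (MulAut.conj h⁻¹ * α)) x = x := by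
        rw [MulAut.mul_apply, hβ, MulAut.conj_apply, hcx]
        group
      have hinn : MulAut.conj c * MulAut.conj h⁻¹ ∈ Inn Q :=
        ⟨c * h⁻¹, by rw [map_mul]⟩
      rcases hct with hct | hct
      · left
        have e : MulAut.conj c * (MulAut.conj h⁻¹ * α) = 1 :=
          hgen _ _ (by rw [hβ']; rfl) (by rw [hct]; rfl)
        have e2 : α = (MulAut.conj c * MulAut.conj h⁻¹)⁻¹ :=
          eq_inv_of_mul_eq_one_right (by rw [mul_assoc]; exact e)
        rw [e2]
        exact (Inn Q).inv_mem hinn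
      · right
        have e : MulAut.conj c * (MulAut.conj h⁻¹ * α) = σ :=
          hgen _ _ (by rw [hβ', hσx]) hct
        have e2 : α * σ⁻¹ = (MulAut.conj c * MulAut.conj h⁻¹)⁻¹ :=
          eq_inv_of_mul_eq_one_right (by rw [← e]; group)
        rw [e2]
        exact (Inn Q).inv_mem hinn
    · exact absurd hβ (h3 _)
  have hidx : (Inn Q).index = 2 := by
    rw [Subgroup.index_eq_two_iff]
    refine ⟨σ⁻¹, fun b => ?_⟩
    rcases key b with hb | hb
    · right
      refine ⟨hb, fun hb' => hσ ?_⟩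
      have : σ⁻¹ ∈ Inn Q := by
        have := (Inn Q).mul_mem ((Inn Q).inv_mem hb) hb'
        rwa [inv_mul_cancel_left] at this
      have h2 := (Inn Q).inv_mem this
      rwa [inv_inv] at h2
    · left
      refine ⟨hb, fun hb' => hσ ?_⟩
      have : σ⁻¹ ∈ Inn Q := by
        have := (Inn Q).mul_mem ((Inn Q).inv_mem hb') hb
        rwa [inv_mul_cancel_left] at this
      have h2 := (Inn Q).inv_mem this
      rwa [inv_inv] at h2
  exact hidx

end Cfsg.Agent.Lib.Helper60.OutTwo
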