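import Mathlib

set_option autoImplicit false

namespace Cfsg.Agent.Lib.Helper60

open Finset

/-- The group of affine maps `x ↦ u * x + b` of a commutative ring `R`, with `u` in a subgroup
`U` of the units. -/
@[ext]
structure AffGrp (R : Type*) [CommRing R] (U : Subgroup Rˣ) where
  /-- the linear part -/
  u : U
  /-- the translation part -/
  b : R

namespace AffGrp

variable {R : Type*} [CommRing R] {U : Subgroup Rˣ}

/-- the linear part as a ring element -/
def uv (x : AffGrp R U) : R := ((x.u : Rˣ) : R)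

instance : Mul (AffGrp R U) := ⟨fun x y => ⟨x.u * y.u, x.b + x.uv * y.b⟩⟩
instance : One (AffGrp R U) := ⟨⟨1, 0⟩⟩
instance : Inv (AffGrp R U) := ⟨fun x => ⟨x.u⁻¹, -((((x.u⁻¹ : U) : Rˣ) : R) * x.b)⟩⟩

@[simp] theorem mul_u (x y : AffGrp R U) : (x * y).u = x.u * y.u := rfl
@[simp] theorem mul_b (x y : AffGrp R U) : (x * y).b = x.b + x.uv * y.b := rfl
@[simp] theorem one_u : (1 : AffGrp R U).u = 1 := rfl
@[simp] theorem one_b : (1 : AffGrp R U).b = 0 := rfl
@[simp] theorem inv_u (x : AffGrp R U) : (x⁻¹).u = x.u⁻¹ := rfl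
@[simp] theorem inv_b (x : AffGrp R U) :
    (x⁻¹).b = -((((x.u⁻¹ : U) : Rˣ) : R) * x.b) := rfl
@[simp] theorem mul_uv (x y : AffGrp R U) : (x * y).uv = x.uv * y.uv := by
  simp [uv]
@[simp] theorem one_uv : (1 : AffGrp R U).uv = 1 := by
  simp [uv]

instance : Group (AffGrp R U) where
  mul_assoc x y z := by
    ext
    · simp [mul_assoc]
    · simp; ring
  one_mul x := by
    ext
    · simp
    · simp
  mul_one x := by
    ext
    · simp
    · simp
  inv_mul_cancel x := by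
    ext
    · simp
    · simp [uv]

theorem pow_u (x : AffGrp R U) (n : ℕ) : (x ^ n).u = x.u ^ n := by
  induction n with
  | zero => simp
  | succ n ih => rw [pow_succ, mul_u, ih, pow_succ]

theorem pow_uv (x : AffGrp R U) (n : ℕ) : (x ^ n).uv = x.uv ^ n := by
  induction n with
  | zero => simp
  | succ n ih => rw [pow_succ, mul_uv, ih, pow_succ]

theorem pow_b (x : AffGrp R U) (n : ℕ) :
    (x ^ n).b = x.b * ∑ j ∈ range n, x.uv ^ j := by
  induction n with
  | zero => simp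
  | succ n ih =>
    rw [pow_succ, mul_b, ih, pow_uv, Finset.sum_range_succ]
    ring

theorem eq_one_iff (x : AffGrp R U) : x = 1 ↔ x.u = 1 ∧ x.b = 0 := by
  constructor
  · rintro rfl; exact ⟨rfl, rfl⟩
  · rintro ⟨h1, h2⟩; ext
    · rw [h1]; rfl
    · rw [h2]; rfl

theorem uv_eq_one_iff (x : AffGrp R U) : x.uv = 1 ↔ x.u = 1 := by
  constructor
  · intro h
    have : (x.u : Rˣ) = 1 := Units.ext h
    exact Subtype.ext this
  · intro h; simp [uv, h]

/-- The underlying equivalence with a product. -/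
def equivProd : AffGrp R U ≃ U × R where
  toFun x := (x.u, x.b)
  invFun y := ⟨y.1, y.2⟩
  left_inv _ := rfl
  right_inv _ := rfl

instance [Finite R] : Finite (AffGrp R U) := Finite.of_equiv _ equivProd.symm

end AffGrp

/-- The `q`-th roots of unity among the units of a commutative ring. -/
def rootsU (R : Type*) [CommRing R] (q : ℕ) : Subgroup Rˣ where
  carrier := {u | u ^ q = 1}
  one_mem' := one_pow q
  mul_mem' := by
    intro a b ha hb
    change _ ^ q = 1 at *
    rw [mul_pow, ha, hb, one_mul]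
  inv_mem' := by
    intro a ha
    change _ ^ q = 1 at *
    rw [inv_pow, ha, inv_one]

theorem mem_rootsU {R : Type*} [CommRing R] (q : ℕ) (u : Rˣ) : u ∈ rootsU R q ↔ u ^ q = 1 :=
  Iff.rfl

namespace AffGrp

section Frobenius

variable {K : Type*} [Field K] (p q : ℕ) [CharP K p]

theorem frob_pow_p_of_u (x : AffGrp K (rootsU K q)) (h : x.u = 1) : x ^ p = 1 := by
  rw [eq_one_iff, pow_u, pow_b, h, one_pow]
  refine ⟨rfl, ?_⟩
  have h1 : x.uv = 1 := (uv_eq_one_iff x).mpr h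
  simp [h1]

theorem frob_pow_q_of_u (x : AffGrp K (rootsU K q)) (h : x.u ≠ 1) : x ^ q = 1 := by
  rw [eq_one_iff, pow_u, pow_b]
  have hq : (x.u : Kˣ) ^ q = 1 := x.u.2
  have hq' : x.uv ^ q = 1 := by
    have := congrArg (fun z : Kˣ => (z : K)) hq
    simpa [uv] using this
  refine ⟨Subtype.ext (by simpa using hq), ?_⟩
  have h1 : x.uv - 1 ≠ 0 := by
    intro h2
    exact h ((uv_eq_one_iff x).mp (sub_eq_zero.mp h2))
  have h3 := geom_sum_mul x.uv q
  rw [hq', sub_self] at h3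
  rcases mul_eq_zero.mp h3 with h4 | h4
  · rw [h4, mul_zero]
  · exact absurd h4 h1

theorem frob_order (hp : p.Prime) (hq : q.Prime) (x : AffGrp K (rootsU K q)) :
    orderOf x = 1 ∨ orderOf x = p ∨ orderOf x = q := by
  by_cases h : x.u = 1
  · have h1 : orderOf x ∣ p := orderOf_dvd_of_pow_eq_one (frob_pow_p_of_u p q x h)
    rcases (Nat.dvd_prime hp).mp h1 with h2 | h2
    · exact Or.inl h2
    · exact Or.inr (Or.inl h2)
  · have h1 : orderOf x ∣ q := orderOf_dvd_of_pow_eq_one (frob_pow_q_of_u q x h)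
    rcases (Nat.dvd_prime hq).mp h1 with h2 | h2
    · exact Or.inl h2
    · exact Or.inr (Or.inr h2)

theorem frob_exists_p (hp : p.Prime) : ∃ x : AffGrp K (rootsU K q), orderOf x = p := by
  have := Fact.mk hp
  refine ⟨⟨1, 1⟩, orderOf_eq_prime (frob_pow_p_of_u p q _ rfl) ?_⟩
  intro h
  have := congrArg AffGrp.b h
  simp at this

theorem frob_exists_q (hq : q.Prime) (ζ : Kˣ) (hζ : ζ ^ q = 1) (hζ1 : ζ ≠ 1) :
    ∃ x : AffGrp K (rootsU K q), orderOf x = q := by
  have := Fact.mk hq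
  have hne : (⟨⟨ζ, hζ⟩, 0⟩ : AffGrp K (rootsU K q)).u ≠ 1 := by
    intro h
    exact hζ1 (congrArg Subtype.val h)
  refine ⟨⟨⟨ζ, hζ⟩, 0⟩, orderOf_eq_prime (frob_pow_q_of_u q _ hne) ?_⟩
  intro h
  exact hne (congrArg AffGrp.u h)

omit [CharP K p] in
theorem frob_u_of_pow (hp : p.Prime) (hq : q.Prime) (hpq : p ≠ q)
    (x : AffGrp K (rootsU K q)) (k : ℕ) (hx : x ^ (p ^ k) = 1) : x.u = 1 := by
  have h1 : (x.u : Kˣ) ^ (p ^ k) = 1 := by
    have := congrArg AffGrp.u hx
    rw [pow_u] at this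
    simpa using congrArg Subtype.val this
  have h2 : (x.u : Kˣ) ^ q = 1 := x.u.2
  have h3 : (x.u : Kˣ) ^ (Nat.gcd (p ^ k) q) = 1 := pow_gcd_eq_one.mpr ⟨h1, h2⟩
  have h4 : Nat.gcd (p ^ k) q = 1 :=
    Nat.Coprime.pow_left k ((Nat.coprime_primes hp hq).mpr hpq)
  rw [h4, pow_one] at h3
  exact Subtype.ext h3

/-- In the Frobenius group, the product of two `p`-elements has `p`-th power one. -/
theorem frob_mul_pow (hp : p.Prime) (hq : q.Prime) (hpq : p ≠ q)
    (x y : AffGrp K (rootsU K q)) (hx : ∃ k : ℕ, x ^ (p ^ k) = 1)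
    (hy : ∃ k : ℕ, y ^ (p ^ k) = 1) : (x * y) ^ p = 1 := by
  obtain ⟨k, hk⟩ := hx
  obtain ⟨l, hl⟩ := hy
  apply frob_pow_p_of_u
  rw [mul_u, frob_u_of_pow p q hp hq hpq x k hk, frob_u_of_pow p q hp hq hpq y l hl, one_mul]

end Frobenius

end AffGrp

/-- For distinct primes `p`, `q` the field with `p ^ (q - 1)` elements has a non-trivial
`q`-th root of unity. -/
theorem exists_root_galois (p q : ℕ) [hp : Fact p.Prime] (hq : q.Prime) (hpq : p ≠ q) :
    ∃ ζ : (GaloisField p (q - 1))ˣ, ζ ^ q = 1 ∧ ζ ≠ 1 := by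
  have := Fact.mk hq
  have hq1 : q - 1 ≠ 0 := by have := hq.two_le; omega
  have hcard : Nat.card (GaloisField p (q - 1))ˣ = p ^ (q - 1) - 1 := by
    rw [Nat.card_units, GaloisField.card p (q - 1) hq1]
  have hdvd : q ∣ p ^ (q - 1) - 1 := by
    have hcop : Nat.Coprime p q := (Nat.coprime_primes hp.out hq).mpr hpq
    have h := Nat.ModEq.pow_totient hcop
    rw [Nat.totient_prime hq] at h
    exact (Nat.modEq_iff_dvd' (Nat.one_le_pow _ _ hp.out.pos)).mp h.symm
  obtain ⟨ζ, hζ⟩ := exists_prime_orderOf_dvd_card' (G := (GaloisField p (q - 1))ˣ) q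
    (by rw [hcard]; exact hdvd)
  have hζq : ζ ^ q = 1 := by
    have h := pow_orderOf_eq_one ζ
    rwa [hζ] at h
  refine ⟨ζ, hζq, ?_⟩
  rintro rfl
  rw [orderOf_one] at hζ
  exact hq.one_lt.ne hζ

end Cfsg.Agent.Lib.Helper60
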