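import Mathlib
import Cfsg.Prelude.Def_Transfer

/-!
A criterion for a `2`-group to be extraspecial (centre of order two equal to the derived
subgroup, squares central), with the facts on Frattini subgroups of `p`-groups it needs.
-/

set_option autoImplicit false

namespace Cfsg.Agent.Lib.Helper60.Extra

section
variable {P : Type*} [Group P] [Finite P] {p : ℕ} [Fact p.Prime]

/-- A maximal subgroup of a finite `p`-group is normal. -/
theorem coatom_normal (hP : IsPGroup p P) {M : Subgroup P} (hM : IsCoatom M) : M.Normal := by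
  have := hP.isNilpotent
  exact Subgroup.NormalizerCondition.normal_of_coatom M (Group.normalizerCondition_of_isNilpotent (G := P)) hM

/-- A maximal subgroup of a finite `p`-group has index `p`. -/
theorem coatom_index (hP : IsPGroup p P) {M : Subgroup P} (hM : IsCoatom M) : M.index = p := by
  have hp : p.Prime := Fact.out
  obtain ⟨k, hk⟩ := hP.exists_card_eq
  obtain ⟨m, hm⟩ := (hP.to_subgroup M).exists_card_eq
  have hlt : Nat.card M < Nat.card P := by
    have h1 : Nat.card M ≤ Nat.card P := Subgroup.card_le_card_group M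
    rcases lt_or_eq_of_le h1 with h | h
    · exact h
    · exact absurd (Subgroup.card_eq_iff_eq_top M |>.mp h) hM.1
  have hmk : m < k := by
    rw [hk, hm] at hlt
    exact (Nat.pow_lt_pow_iff_right hp.one_lt).mp hlt
  have hdvd : p ^ (m + 1) ∣ Nat.card P := by
    rw [hk]; exact pow_dvd_pow p hmk
  obtain ⟨K, hK, hMK⟩ := Sylow.exists_subgroup_card_pow_succ hdvd hm
  have hne : M ≠ K := by
    intro h
    rw [← h, hm] at hK
    have := Nat.pow_right_injective hp.two_le hK
    omega
  have hKtop : K = ⊤ := hM.2 K (lt_of_le_of_ne hMK hne)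
  have hcardP : Nat.card P = p ^ (m + 1) := by
    rw [← hK, hKtop, Subgroup.card_top]
  have h2 := M.card_mul_index
  rw [hm, hcardP, pow_succ] at h2
  exact Nat.eq_of_mul_eq_mul_left (pow_pos hp.pos m) h2

omit [Finite P] in
theorem mem_frattini_iff (x : P) : x ∈ frattini P ↔ ∀ M : Subgroup P, IsCoatom M → x ∈ M := by
  simp [frattini, Order.radical, Subgroup.mem_iInf]

/-- In a finite `p`-group the derived subgroup lies in the Frattini subgroup. -/
theorem commutator_le_frattini (hP : IsPGroup p P) : commutator P ≤ frattini P := by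
  intro x hx
  rw [mem_frattini_iff]
  intro M hM
  have hn : M.Normal := coatom_normal hP hM
  have hcard : Nat.card (P ⧸ M) = p := by
    rw [← Subgroup.index_eq_card]; exact coatom_index hP hM
  have hcyc : IsCyclic (P ⧸ M) := isCyclic_of_prime_card hcard
  have hcomm : IsMulCommutative (P ⧸ M) := inferInstance
  exact (Subgroup.Normal.quotient_commutative_iff_commutator_le.mp hcomm) hx

end

/-- A homomorphism from a finite group whose image is commutative of exponent `p` kills the
Frattini subgroup. -/
theorem frattini_le_ker_of_elementary {P : Type*} [Group P] [Finite P] {p : ℕ} [Fact p.Prime]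
    {B : Type*} [Group B] (φ : P →* B) (hcomm : ∀ u v : P, φ u * φ v = φ v * φ u)
    (hpow : ∀ u : P, φ u ^ p = 1) : frattini P ≤ φ.ker := by
  intro x hx
  by_contra hxk
  have hp : p.Prime := Fact.out
  obtain ⟨K, -, hKmax⟩ := Finite.exists_le_maximal
    (p := fun K : Subgroup P => φ.ker ≤ K ∧ x ∉ K) (a := φ.ker) ⟨le_rfl, hxk⟩
  obtain ⟨⟨hK1, hK2⟩, hK3⟩ := hKmax
  have hKn : K.Normal := by
    refine ⟨fun k hk g => ?_⟩
    have h1 : g * k * g⁻¹ * k⁻¹ ∈ φ.ker := by
      rw [MonoidHom.mem_ker]
      simp only [map_mul, map_inv]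
      rw [hcomm g k]; simp
    have e : g * k * g⁻¹ = (g * k * g⁻¹ * k⁻¹) * k := by group
    rw [e]; exact K.mul_mem (hK1 h1) hk
  have htop : K ⊔ Subgroup.zpowers x = ⊤ := by
    rw [eq_top_iff]
    intro y _
    by_cases hy : y ∈ K
    · exact (le_sup_left : K ≤ K ⊔ Subgroup.zpowers x) hy
    · have hx' : x ∈ K ⊔ Subgroup.zpowers y := by
        by_contra hcon
        have h2 := hK3 (y := K ⊔ Subgroup.zpowers y) ⟨hK1.trans le_sup_left, hcon⟩ le_sup_left
        exact hy (h2 ((le_sup_right : Subgroup.zpowers y ≤ K ⊔ Subgroup.zpowers y)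
          (Subgroup.mem_zpowers y)))
      have hx'' : x ∈ ((K ⊔ Subgroup.zpowers y : Subgroup P) : Set P) := hx'
      rw [Subgroup.normal_mul] at hx''
      obtain ⟨k, hk, z, hz, hkz⟩ := hx''
      obtain ⟨i, rfl⟩ := Subgroup.mem_zpowers_iff.mp hz
      have hyp : y ^ p ∈ K := hK1 (by rw [MonoidHom.mem_ker, map_pow]; exact hpow y)
      have hpi : ¬ (p : ℤ) ∣ i := by
        rintro ⟨j, rfl⟩
        apply hK2
        rw [← hkz]
        refine K.mul_mem hk ?_
        rw [zpow_mul, zpow_natCast]
        exact K.zpow_mem hyp j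
      have hcop : IsCoprime (p : ℤ) i := by
        rw [Int.isCoprime_iff_gcd_eq_one]
        have h3 : Nat.Coprime p i.natAbs :=
          (Nat.Prime.coprime_iff_not_dvd hp).2 (by rwa [← Int.natCast_dvd])
        simpa [Int.gcd] using h3
      obtain ⟨u, v, huv⟩ := hcop
      have hyi : y ^ i ∈ K ⊔ Subgroup.zpowers x := by
        have e : y ^ i = k⁻¹ * x := by rw [← hkz]; group
        rw [e]
        exact Subgroup.mul_mem _ ((le_sup_left : K ≤ K ⊔ Subgroup.zpowers x) (K.inv_mem hk))
          ((le_sup_right : Subgroup.zpowers x ≤ K ⊔ Subgroup.zpowers x) (Subgroup.mem_zpowers x))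
      have e : y = (y ^ p) ^ u * (y ^ i) ^ v := by
        rw [← zpow_natCast y p, ← zpow_mul, ← zpow_mul, ← zpow_add, mul_comm (p : ℤ) u,
          mul_comm i v, huv, zpow_one]
      rw [e]
      exact Subgroup.mul_mem _ ((le_sup_left : K ≤ K ⊔ Subgroup.zpowers x) (K.zpow_mem hyp u))
        (Subgroup.zpow_mem _ hyi v)
  have htop' : K ⊔ frattini P = ⊤ := by
    rw [eq_top_iff, ← htop]
    exact sup_le_sup_left ((Subgroup.zpowers_le).mpr hx) K
  have h4 := frattini_nongenerating htop'
  exact hK2 (h4 ▸ Subgroup.mem_top x)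

theorem map_subtype_center {X : Type*} [Group X] (P : Subgroup X) :
    (Subgroup.center P).map P.subtype = P ⊓ Subgroup.centralizer (P : Set X) := by
  ext x
  constructor
  · rintro ⟨z, hz, rfl⟩
    refine Subgroup.mem_inf.mpr ⟨z.2, ?_⟩
    rw [Subgroup.mem_centralizer_iff]
    intro h hh
    have := Subgroup.mem_center_iff.mp hz ⟨h, hh⟩
    exact congrArg Subtype.val this
  · intro hx
    obtain ⟨hxP, hxC⟩ := Subgroup.mem_inf.mp hx
    refine ⟨⟨x, hxP⟩, ?_, rfl⟩
    show (⟨x, hxP⟩ : P) ∈ Subgroup.center P
    rw [Subgroup.mem_center_iff]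
    intro g
    apply Subtype.ext
    exact Subgroup.mem_centralizer_iff.mp hxC g g.2

/-- A `2`-subgroup `R` with centre `Z` of order two, `R' = Z` and squares in `Z` is extraspecial. -/
theorem isExtraspecial_of {G : Type*} [Group G] [Finite G] (R Z : Subgroup G) (hR2 : IsPGroup 2 R)
    (hcen : R ⊓ Subgroup.centralizer (R : Set G) = Z) (hcomm : ⁅R, R⁆ = Z)
    (hsq : ∀ x ∈ R, x ^ 2 ∈ Z) (hcard : Nat.card Z = 2) : Cfsg.IsExtraspecial 2 ↥R := by
  have : Fact (Nat.Prime 2) := ⟨Nat.prime_two⟩
  have hcenter : (Subgroup.center R).map R.subtype = Z := by rw [map_subtype_center, hcen]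
  have hcommR : (commutator R).map R.subtype = Z := by
    rw [Subgroup.map_subtype_commutator]
    exact hcomm
  have hcc : commutator R = Subgroup.center R :=
    Subgroup.map_injective R.subtype_injective (hcommR.trans hcenter.symm)
  have hmemZ : ∀ u : R, (u : G) ∈ Z → u ∈ Subgroup.center R := by
    intro u hu
    rw [← hcenter] at hu
    obtain ⟨c, hc, hcu⟩ := hu
    have : c = u := Subtype.ext hcu
    rw [← this]; exact hc
  refine ⟨⟨hR2, ?_, hcc⟩, ?_⟩
  · apply le_antisymm
    · have key := frattini_le_ker_of_elementary (p := 2)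
        (QuotientGroup.mk' (Subgroup.center R)) ?_ ?_
      · rwa [QuotientGroup.ker_mk'] at key
      · intro u v
        have h1 : u * v * u⁻¹ * v⁻¹ ∈ Subgroup.center R := by
          rw [← hcc, commutator_def]
          exact Subgroup.commutator_mem_commutator (Subgroup.mem_top u) (Subgroup.mem_top v)
        have h2 : QuotientGroup.mk' (Subgroup.center R) (u * v * u⁻¹ * v⁻¹) = 1 :=
          (QuotientGroup.eq_one_iff _).mpr h1
        simp only [map_mul, map_inv] at h2
        calc QuotientGroup.mk' (Subgroup.center R) u * QuotientGroup.mk' (Subgroup.center R) v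
            = (QuotientGroup.mk' (Subgroup.center R) u * QuotientGroup.mk' (Subgroup.center R) v *
                (QuotientGroup.mk' (Subgroup.center R) u)⁻¹ *
                (QuotientGroup.mk' (Subgroup.center R) v)⁻¹) *
              (QuotientGroup.mk' (Subgroup.center R) v * QuotientGroup.mk' (Subgroup.center R) u) := by
              group
          _ = QuotientGroup.mk' (Subgroup.center R) v * QuotientGroup.mk' (Subgroup.center R) u := by
              rw [h2, one_mul]
      · intro u
        rw [← map_pow]
        refine (QuotientGroup.eq_one_iff _).mpr (hmemZ (u ^ 2) ?_)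
        have := hsq u u.2
        simpa using this
    · rw [← hcc]
      exact commutator_le_frattini hR2
  · rw [← Subgroup.card_map_of_injective R.subtype_injective, hcenter, hcard]

end Cfsg.Agent.Lib.Helper60.Extra
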