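import Mathlib

set_option autoImplicit false

namespace Cfsg.Agent.Lib.Helper60

open scoped IsMulCommutative

/-- If `y` normalizes the subgroup `M`, so does every power of `y`. -/
theorem conj_pow_mem {Γ : Type*} [Group Γ] (M : Subgroup Γ) (y : Γ)
    (hyM : ∀ m ∈ M, y * m * y⁻¹ ∈ M) (j : ℕ) :
    ∀ m ∈ M, y ^ j * m * (y ^ j)⁻¹ ∈ M := by
  induction j with
  | zero => intro m hm; simpa using hm
  | succ j ih =>
    intro m hm
    have h := hyM _ (ih m hm)
    have e : y ^ (j + 1) * m * (y ^ (j + 1))⁻¹ = y * (y ^ j * m * (y ^ j)⁻¹) * y⁻¹ := by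
      rw [pow_succ']; group
    rw [e]; exact h

/-- If `y` normalizes `M` and `m ∈ M` then `(m y)^j y^(-j) ∈ M`. -/
theorem mul_pow_mem {Γ : Type*} [Group Γ] (M : Subgroup Γ) (y : Γ)
    (hyM : ∀ m ∈ M, y * m * y⁻¹ ∈ M) (j : ℕ) :
    ∀ m ∈ M, (m * y) ^ j * (y ^ j)⁻¹ ∈ M := by
  induction j with
  | zero => intro m _; simp
  | succ j ih =>
    intro m hm
    have e : (m * y) ^ (j + 1) * (y ^ (j + 1))⁻¹
        = ((m * y) ^ j * (y ^ j)⁻¹) * (y ^ j * m * (y ^ j)⁻¹) := by
      rw [pow_succ, pow_succ]; group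
    rw [e]
    exact M.mul_mem (ih m hm) (conj_pow_mem M y hyM j m hm)

/-- Counting lemma for fixed-point-free actions: a group `M ⋊ ⟨y⟩` all of whose relevant
elements act without non-trivial fixed points on an abelian group `A` forces `a ^ |M| = 1`. -/
theorem fpf_count {A Γ : Type*} [Group A] [IsMulCommutative A] [Group Γ] (ρ : Γ →* MulAut A)
    (M : Subgroup Γ) [Finite M] (y : Γ) (r : ℕ) (hr : r.Prime)
    (hyM : ∀ m ∈ M, y * m * y⁻¹ ∈ M)
    (m0 : Γ) (hm0 : m0 ∈ M) (hm0fix : ∀ a : A, ρ m0 a = a → a = 1)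
    (hpow : ∀ m ∈ M, (m * y) ^ r = 1)
    (hfix : ∀ m ∈ M, ∀ a : A, ρ (m * y) a = a → a = 1) :
    ∀ a : A, a ^ Nat.card M = 1 := by
  classical
  intro a
  have := Fintype.ofFinite M
  have hΨ : ∀ b : A, ∏ m : M, ρ (m : Γ) b = 1 := by
    intro b
    apply hm0fix
    rw [map_prod]
    have h1 : ∀ m : M, ρ m0 (ρ (m : Γ) b) = ρ (((⟨m0, hm0⟩ : M) * m : M) : Γ) b := by
      intro m
      simp [map_mul]
    simp_rw [h1]
    exact Fintype.prod_equiv (Equiv.mulLeft (⟨m0, hm0⟩ : M)) _ _ (fun m => rfl)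
  have hS2 : ∀ m ∈ M, ∏ j ∈ Finset.range r, ρ ((m * y) ^ j) a = 1 := by
    intro m hm
    apply hfix m hm
    rw [map_prod]
    have h1 : ∀ j : ℕ, ρ (m * y) (ρ ((m * y) ^ j) a) = ρ ((m * y) ^ (j + 1)) a := by
      intro j
      rw [pow_succ', map_mul (f := ρ) (m * y) ((m * y) ^ j), MulAut.mul_apply]
    simp_rw [h1]
    have h2 := Finset.prod_range_succ' (fun j => ρ ((m * y) ^ j) a) r
    have h3 := Finset.prod_range_succ (fun j => ρ ((m * y) ^ j) a) r
    rw [h3] at h2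
    simp only [hpow m hm, pow_zero] at h2
    exact (mul_right_cancel h2).symm
  have hmain : ∏ m : M, ∏ j ∈ Finset.range r, ρ (((m : Γ) * y) ^ j) a = 1 :=
    Finset.prod_eq_one (fun m _ => hS2 m m.2)
  rw [Finset.prod_comm] at hmain
  obtain ⟨r', rfl⟩ : ∃ r', r = r' + 1 := ⟨r - 1, by have := hr.pos; omega⟩
  rw [Finset.prod_range_succ'] at hmain
  have h0 : ∏ m : M, ρ (((m : Γ) * y) ^ 0) a = a ^ Nat.card M := by
    simp [Finset.prod_const, Nat.card_eq_fintype_card]
  have hk : ∀ k ∈ Finset.range r', ∏ m : M, ρ (((m : Γ) * y) ^ (k + 1)) a = 1 := by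
    intro k hk
    let φ : M → M := fun m =>
      ⟨((m : Γ) * y) ^ (k + 1) * (y ^ (k + 1))⁻¹, mul_pow_mem M y hyM (k + 1) m m.2⟩
    have hφinj : Function.Injective φ := by
      intro m m' h
      have h1 : ((m : Γ) * y) ^ (k + 1) = ((m' : Γ) * y) ^ (k + 1) := by
        have h2 := congrArg Subtype.val h
        exact mul_right_cancel h2
      have hcop : Nat.Coprime (k + 1) (r' + 1) := by
        apply Nat.Coprime.symm
        rw [hr.coprime_iff_not_dvd]
        intro hd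
        have := Nat.le_of_dvd (by omega) hd
        simp at hk
        omega
      obtain ⟨c, -, hc⟩ := Nat.exists_mul_mod_eq_one_of_coprime hcop hr.one_lt
      have key : ∀ u : Γ, u ^ (r' + 1) = 1 → u = (u ^ (k + 1)) ^ c := by
        intro u hu
        rw [← pow_mul, ← Nat.mod_add_div ((k + 1) * c) (r' + 1), hc, pow_add, pow_mul, hu]
        simp
      have h3 := key _ (hpow m m.2)
      rw [h1, ← key _ (hpow m' m'.2)] at h3
      exact Subtype.ext (mul_right_cancel h3)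
    have hφbij : Function.Bijective φ := Finite.injective_iff_bijective.mp hφinj
    have h4 : ∀ m : M, ρ (((m : Γ) * y) ^ (k + 1)) a = ρ ((φ m : M) : Γ) (ρ (y ^ (k + 1)) a) := by
      intro m
      rw [← MulAut.mul_apply, ← map_mul]
      congr 2
      simp [φ]
    simp_rw [h4]
    rw [Function.Bijective.prod_comp hφbij (fun m => ρ (m : Γ) (ρ (y ^ (k + 1)) a))]
    exact hΨ _
  rw [Finset.prod_eq_one hk, one_mul, h0] at hmain
  exact hmain

/-- A commuting pair: an element of prime order `s` and a non-trivial `p`-element give an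
element of order `p * s`. -/
theorem exists_orderOf_mul_of_commute {G : Type*} [Group G] (p s : ℕ) (hp : p.Prime)
    (hs : s.Prime) (hps : p ≠ s) (x a : G) (hx : orderOf x = s) (hxa : x * a = a * x)
    (k : ℕ) (hak : a ^ (p ^ k) = 1) (ha1 : a ≠ 1) :
    ∃ z : G, orderOf z = p * s := by
  have := Fact.mk hp
  have h1 : orderOf a ∣ p ^ k := orderOf_dvd_of_pow_eq_one hak
  obtain ⟨j, _, hoj⟩ := (Nat.dvd_prime_pow hp).mp h1
  have hj1 : j ≠ 0 := by
    rintro rfl
    rw [pow_zero, orderOf_eq_one_iff] at hoj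
    exact ha1 hoj
  refine ⟨a ^ (p ^ (j - 1)) * x, ?_⟩
  have ha' : orderOf (a ^ (p ^ (j - 1))) = p := by
    apply orderOf_eq_prime
    · rw [← pow_mul, ← pow_succ, Nat.sub_add_cancel (Nat.pos_of_ne_zero hj1), ← hoj,
        pow_orderOf_eq_one]
    · intro h
      have h2 := orderOf_dvd_of_pow_eq_one h
      rw [hoj] at h2
      have h3 := (Nat.pow_dvd_pow_iff_le_right hp.one_lt).mp h2
      omega
  have hcomm : Commute (a ^ (p ^ (j - 1))) x :=
    Commute.pow_left (show Commute a x from hxa.symm) _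
  rw [hcomm.orderOf_mul_eq_mul_orderOf_of_coprime, ha', hx]
  rw [ha', hx]
  exact (Nat.coprime_primes hp hs).mpr hps

/-- Base case: a normal abelian `p`-subgroup `N`, an abelian subgroup `M` of exponent `q`
normalized by an element `y` of order `r`. -/
theorem base0 {G : Type*} [Group G] [Finite G] (p q r : ℕ) (hp : p.Prime) (hq : q.Prime)
    (hr : r.Prime) (hpq : p ≠ q) (hpr : p ≠ r) (hqr : q ≠ r)
    (N : Subgroup G) [N.Normal] [IsMulCommutative N]
    (hNp : ∀ a ∈ N, ∃ k : ℕ, a ^ (p ^ k) = 1) (hN1 : N ≠ ⊥)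
    (M : Subgroup G) (hMq : ∀ m ∈ M, m ^ q = 1) (hM1 : M ≠ ⊥)
    (y : G) (hy : orderOf y = r) (hyM : ∀ m ∈ M, y * m * y⁻¹ ∈ M) :
    (∃ x : G, orderOf x = p * q) ∨ (∃ x : G, orderOf x = p * r) ∨
      (∃ x : G, orderOf x = q * r) := by
  by_contra hno
  push Not at hno
  obtain ⟨h1, h2, h3⟩ := hno
  have := Fact.mk hq
  have hfpf : ∀ (s : ℕ), s.Prime → p ≠ s → (∀ x : G, orderOf x ≠ p * s) →
      ∀ x : G, orderOf x = s → ∀ a : N, MulAut.conjNormal x a = a → a = 1 := by
    intro s hs hps hnos x hx a hxa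
    by_contra ha1
    obtain ⟨k, hk⟩ := hNp a a.2
    have hxa' : x * (a : G) = a * x := by
      have h4 := congrArg Subtype.val hxa
      rw [MulAut.conjNormal_apply] at h4
      calc x * (a : G) = (x * a * x⁻¹) * x := by group
        _ = a * x := by rw [h4]
    obtain ⟨z, hz⟩ := exists_orderOf_mul_of_commute p s hp hs hps x (a : G) hx hxa' k hk
      (fun h => ha1 (Subtype.ext h))
    exact hnos z hz
  obtain ⟨⟨m0, hm0⟩, hm01⟩ := (Subgroup.ne_bot_iff_exists_ne_one).mp hM1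
  have hm01' : m0 ≠ 1 := fun h => hm01 (Subtype.ext h)
  have hom0 : orderOf m0 = q := orderOf_eq_prime (hMq m0 hm0) hm01'
  have hyr : y ^ r = 1 := by rw [← hy]; exact pow_orderOf_eq_one y
  have hmy : ∀ m ∈ M, orderOf (m * y) = r := by
    intro m hm
    have hmem : (m * y) ^ r ∈ M := by
      have h4 := mul_pow_mem M y hyM r m hm
      rwa [hyr, inv_one, mul_one] at h4
    have hqr' : (m * y) ^ (r * q) = 1 := by rw [pow_mul]; exact hMq _ hmem
    have hd : orderOf (m * y) ∣ r * q := orderOf_dvd_of_pow_eq_one hqr'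
    have hnq : ¬ orderOf (m * y) ∣ q := by
      intro hdq
      have e1 : (m * y) ^ q = 1 := orderOf_dvd_iff_pow_eq_one.mp hdq
      have h4 := mul_pow_mem M y hyM q m hm
      rw [e1, one_mul] at h4
      have hyq : y ^ q ∈ M := by simpa using M.inv_mem h4
      have h5 := hMq _ hyq
      rw [← pow_mul] at h5
      have h6 := orderOf_dvd_of_pow_eq_one h5
      rw [hy] at h6
      have h7 : r ∣ q := by
        rcases (Nat.Prime.dvd_mul hr).mp h6 with h | h <;> exact h
      exact hqr ((Nat.prime_dvd_prime_iff_eq hr hq).mp h7).symm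
    obtain ⟨d1, d2, hd1, hd2, hdd⟩ := (Nat.dvd_mul).mp hd
    rcases (Nat.dvd_prime hr).mp hd1 with rfl | rfl
    · exfalso; apply hnq; rw [← hdd, one_mul]; exact hd2
    · rcases (Nat.dvd_prime hq).mp hd2 with rfl | rfl
      · rw [← hdd, mul_one]
      · exfalso; exact h3 (m * y) (by rw [← hdd, mul_comm])
  have hcount := fpf_count (MulAut.conjNormal (H := N)) M y r hr hyM m0 hm0
    (hfpf q hq hpq h1 m0 hom0)
    (fun m hm => by rw [← hmy m hm]; exact pow_orderOf_eq_one _)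
    (fun m hm => hfpf r hr hpr h2 (m * y) (hmy m hm))
  have hMcard : ∃ k, Nat.card M = q ^ k := by
    have hMp : IsPGroup q M := fun g =>
      ⟨1, by rw [pow_one]; exact Subtype.ext (by simpa using hMq g g.2)⟩
    exact (IsPGroup.iff_card).mp hMp
  obtain ⟨k, hk⟩ := hMcard
  obtain ⟨a, ha1⟩ := (Subgroup.ne_bot_iff_exists_ne_one).mp hN1
  obtain ⟨j, hj⟩ := hNp a a.2
  have e1 : (a : G) ^ (q ^ k) = 1 := by
    have h4 := hcount a
    rw [hk] at h4
    simpa using congrArg Subtype.val h4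
  have d1 : orderOf (a : G) ∣ q ^ k := orderOf_dvd_of_pow_eq_one e1
  have d2 : orderOf (a : G) ∣ p ^ j := orderOf_dvd_of_pow_eq_one hj
  have hcop : Nat.Coprime (q ^ k) (p ^ j) :=
    Nat.Coprime.pow _ _ ((Nat.coprime_primes hq hp).mpr (Ne.symm hpq))
  have h8 : orderOf (a : G) = 1 := Nat.eq_one_of_dvd_coprimes hcop d1 d2
  rw [orderOf_eq_one_iff] at h8
  exact ha1 (Subtype.ext h8)

/-- A non-trivial element of `p`-power order has a power of order `p`. -/
theorem exists_pow_orderOf_eq_prime {G : Type*} [Group G] (p : ℕ) (hp : p.Prime) (a : G)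
    (k : ℕ) (hak : a ^ (p ^ k) = 1) (ha1 : a ≠ 1) : ∃ n : ℕ, orderOf (a ^ n) = p := by
  have := Fact.mk hp
  have h1 : orderOf a ∣ p ^ k := orderOf_dvd_of_pow_eq_one hak
  obtain ⟨j, _, hoj⟩ := (Nat.dvd_prime_pow hp).mp h1
  have hj1 : j ≠ 0 := by
    rintro rfl
    rw [pow_zero, orderOf_eq_one_iff] at hoj
    exact ha1 hoj
  refine ⟨p ^ (j - 1), ?_⟩
  apply orderOf_eq_prime
  · rw [← pow_mul, ← pow_succ, Nat.sub_add_cancel (Nat.pos_of_ne_zero hj1), ← hoj,
      pow_orderOf_eq_one]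
  · intro h
    have h2 := orderOf_dvd_of_pow_eq_one h
    rw [hoj] at h2
    have h3 := (Nat.pow_dvd_pow_iff_le_right hp.one_lt).mp h2
    omega

/-- Base case with a normal `p`-subgroup `P`, a `q`-subgroup `Q` and an element `y` of order `r`
normalizing `Q`. -/
theorem base1 {G : Type*} [Group G] [Finite G] (p q r : ℕ) (hp : p.Prime) (hq : q.Prime)
    (hr : r.Prime) (hpq : p ≠ q) (hpr : p ≠ r) (hqr : q ≠ r)
    (P : Subgroup G) [hPn : P.Normal] (hPp : IsPGroup p P) (hP1 : P ≠ ⊥)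
    (Q : Subgroup G) (hQq : IsPGroup q Q) (hQ1 : Q ≠ ⊥)
    (y : G) (hy : orderOf y = r) (hyQ : y ∈ Subgroup.normalizer (Q : Set G)) :
    (∃ x : G, orderOf x = p * q) ∨ (∃ x : G, orderOf x = p * r) ∨
      (∃ x : G, orderOf x = q * r) := by
  have := Fact.mk hp
  have := Fact.mk hq
  -- the centre of `P`, as a subgroup of `G`
  let N : Subgroup G :=
    { carrier := {x | x ∈ P ∧ ∀ z ∈ P, z * x = x * z}
      one_mem' := ⟨P.one_mem, fun z _ => by simp⟩
      mul_mem' := by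
        rintro a b ⟨ha, hac⟩ ⟨hb, hbc⟩
        refine ⟨P.mul_mem ha hb, fun z hz => ?_⟩
        rw [← mul_assoc, hac z hz, mul_assoc, hbc z hz, mul_assoc]
      inv_mem' := by
        rintro a ⟨ha, hac⟩
        refine ⟨P.inv_mem ha, fun z hz => ?_⟩
        have h := hac z hz
        calc z * a⁻¹ = a⁻¹ * (a * z) * a⁻¹ := by group
          _ = a⁻¹ * (z * a) * a⁻¹ := by rw [h]
          _ = a⁻¹ * z := by group }
  have hNmem : ∀ x, x ∈ N ↔ x ∈ P ∧ ∀ z ∈ P, z * x = x * z := fun x => Iff.rfl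
  have hNn : N.Normal := by
    refine ⟨fun n hn g => ?_⟩
    rw [hNmem] at hn ⊢
    refine ⟨hPn.conj_mem n hn.1 g, fun z hz => ?_⟩
    have hz' : g⁻¹ * z * g ∈ P := by
      have h := hPn.conj_mem z hz g⁻¹
      simpa using h
    have h := hn.2 _ hz'
    calc z * (g * n * g⁻¹) = g * ((g⁻¹ * z * g) * n) * g⁻¹ := by group
      _ = g * (n * (g⁻¹ * z * g)) * g⁻¹ := by rw [h]
      _ = g * n * g⁻¹ * z := by group
  have hNc : IsMulCommutative N :=
    ⟨⟨fun a b => Subtype.ext (b.2.2 a a.2.1)⟩⟩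
  have hNp : ∀ a ∈ N, ∃ k : ℕ, a ^ (p ^ k) = 1 := by
    intro a ha
    obtain ⟨k, hk⟩ := hPp ⟨a, ha.1⟩
    exact ⟨k, by simpa using congrArg Subtype.val hk⟩
  have hN1 : N ≠ ⊥ := by
    have : Nontrivial P := (Subgroup.nontrivial_iff_ne_bot P).mpr hP1
    have : Finite P := inferInstance
    have := hPp.center_nontrivial
    obtain ⟨c, hc⟩ := exists_ne (1 : Subgroup.center P)
    rw [Subgroup.ne_bot_iff_exists_ne_one]
    have hcN : ((c : P) : G) ∈ N := by
      rw [hNmem]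
      refine ⟨(c : P).2, fun z hz => ?_⟩
      have h := (Subgroup.mem_center_iff.mp c.2) ⟨z, hz⟩
      simpa using congrArg Subtype.val h
    refine ⟨⟨_, hcN⟩, fun h => hc ?_⟩
    have h2 : ((c : P) : G) = 1 := by simpa using congrArg Subtype.val h
    exact Subtype.ext (Subtype.ext h2)
  -- elements of order dividing `q` in the centre of `Q`
  let M : Subgroup G :=
    { carrier := {x | x ∈ Q ∧ (∀ z ∈ Q, z * x = x * z) ∧ x ^ q = 1}
      one_mem' := ⟨Q.one_mem, fun z _ => by simp, one_pow q⟩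
      mul_mem' := by
        rintro a b ⟨ha, hac, haq⟩ ⟨hb, hbc, hbq⟩
        refine ⟨Q.mul_mem ha hb, fun z hz => ?_, ?_⟩
        · rw [← mul_assoc, hac z hz, mul_assoc, hbc z hz, mul_assoc]
        · rw [(show Commute a b from hbc a ha).mul_pow, haq, hbq, one_mul]
      inv_mem' := by
        rintro a ⟨ha, hac, haq⟩
        refine ⟨Q.inv_mem ha, fun z hz => ?_, by rw [inv_pow, haq, inv_one]⟩
        have h := hac z hz
        calc z * a⁻¹ = a⁻¹ * (a * z) * a⁻¹ := by group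
          _ = a⁻¹ * (z * a) * a⁻¹ := by rw [h]
          _ = a⁻¹ * z := by group }
  have hMmem : ∀ x, x ∈ M ↔ x ∈ Q ∧ (∀ z ∈ Q, z * x = x * z) ∧ x ^ q = 1 := fun x => Iff.rfl
  have hMq : ∀ m ∈ M, m ^ q = 1 := fun m hm => hm.2.2
  have hM1 : M ≠ ⊥ := by
    have : Nontrivial Q := (Subgroup.nontrivial_iff_ne_bot Q).mpr hQ1
    have := hQq.center_nontrivial
    obtain ⟨c, hc⟩ := exists_ne (1 : Subgroup.center Q)
    have hc1 : ((c : Q) : G) ≠ 1 := by
      intro h
      exact hc (Subtype.ext (Subtype.ext h))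
    obtain ⟨k, hk⟩ := hQq (c : Q)
    have hk' : ((c : Q) : G) ^ (q ^ k) = 1 := by simpa using congrArg Subtype.val hk
    obtain ⟨n, hn⟩ := exists_pow_orderOf_eq_prime q hq ((c : Q) : G) k hk' hc1
    rw [Subgroup.ne_bot_iff_exists_ne_one]
    have hcM : ((c : Q) : G) ^ n ∈ M := by
      rw [hMmem]
      refine ⟨Q.pow_mem (c : Q).2 n, fun z hz => ?_, ?_⟩
      · have h := (Subgroup.mem_center_iff.mp c.2) ⟨z, hz⟩
        have h' : z * ((c : Q) : G) = ((c : Q) : G) * z := by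
          simpa using congrArg Subtype.val h
        exact (Commute.pow_right (show Commute z ((c : Q) : G) from h') n)
      · rw [← hn]; exact pow_orderOf_eq_one _
    refine ⟨⟨_, hcM⟩, fun h => ?_⟩
    have h2 : ((c : Q) : G) ^ n = 1 := by simpa using congrArg Subtype.val h
    rw [h2, orderOf_one] at hn
    exact hq.one_lt.ne hn
  have hyM : ∀ m ∈ M, y * m * y⁻¹ ∈ M := by
    intro m hm
    rw [hMmem] at hm ⊢
    have hyQ' := Subgroup.mem_normalizer_iff.mp hyQ
    refine ⟨(hyQ' m).mp hm.1, fun z hz => ?_, by rw [conj_pow, hm.2.2]; group⟩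
    have hz' : y⁻¹ * z * y ∈ Q := by
      rw [hyQ']
      have e : y * (y⁻¹ * z * y) * y⁻¹ = z := by group
      rw [e]; exact hz
    have h := hm.2.1 _ hz'
    calc z * (y * m * y⁻¹) = y * ((y⁻¹ * z * y) * m) * y⁻¹ := by group
      _ = y * (m * (y⁻¹ * z * y)) * y⁻¹ := by rw [h]
      _ = y * m * y⁻¹ * z := by group
  exact base0 p q r hp hq hr hpq hpr hqr N hNp hN1 M hMq hM1 y hy hyM

end Cfsg.Agent.Lib.Helper60
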